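import Mathlib

open IsLocalRing

namespace Groth.Agent.H5.SLB
universe u

section Cover
variable {B : Type*} [CommRing B] [IsLocalRing B] [Infinite (IsLocalRing.ResidueField B)]

/-- a nonzero module over a local ring with infinite residue field is infinite -/
theorem infinite_of_nontrivial (Q : Type*) [AddCommGroup Q] [Module B Q] [Nontrivial Q] :
    Infinite Q := by
  obtain ⟨z, hz⟩ := exists_ne (0 : Q)
  let f : B →ₗ[B] Q := LinearMap.toSpanSingleton B Q z
  have hker : LinearMap.ker f ≤ maximalIdeal B := by
    apply IsLocalRing.le_maximalIdeal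
    intro h
    have h1 : (1 : B) ∈ LinearMap.ker f := by rw [h]; trivial
    rw [LinearMap.mem_ker] at h1
    simp [f] at h1
    exact hz h1
  by_contra hfin
  rw [not_infinite_iff_finite] at hfin
  have h1 : Finite (B ⧸ LinearMap.ker f) := by
    have hinj : Function.Injective ((LinearMap.ker f).liftQ f le_rfl) := by
      rw [← LinearMap.ker_eq_bot]
      exact Submodule.ker_liftQ_eq_bot _ _ _ (le_refl _)
    exact Finite.of_injective _ hinj
  have h2 : Finite (B ⧸ maximalIdeal B) :=
    Finite.of_surjective (Ideal.Quotient.factor hker) (Ideal.Quotient.factor_surjective hker)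
  have h3 : Infinite (B ⧸ maximalIdeal B) := ‹Infinite (IsLocalRing.ResidueField B)›
  exact not_finite (B ⧸ maximalIdeal B)

/-- over a local ring with infinite residue field, a module is not a finite union of submodules
not containing it -/
theorem exists_notMem_of_forall_not_le {E : Type*} [AddCommGroup E] [Module B E]
    {ι : Type*} [Finite ι] (N : Submodule B E) (W : ι → Submodule B E)
    (h : ∀ j, ¬ N ≤ W j) : ∃ y ∈ N, ∀ j, y ∉ W j := by
  classical
  by_contra hcon
  push Not at hcon
  haveI := Fintype.ofFinite ι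
  let p : ι → Submodule B N := fun j => (W j).comap N.subtype
  have hcov : ⋃ j ∈ (Finset.univ : Finset ι), (p j : Set N) = Set.univ := by
    ext ⟨y, hy⟩
    simp only [Finset.mem_univ, Set.iUnion_true, Set.mem_iUnion, SetLike.mem_coe, Set.mem_univ,
      iff_true]
    obtain ⟨j, hj⟩ := hcon y hy
    exact ⟨j, hj⟩
  obtain ⟨k, -, hk⟩ := Submodule.exists_finiteIndex_of_cover hcov
  have hfin : Finite (N ⧸ p k) := AddSubgroup.finite_quotient_of_finiteIndex
  have hnt : Nontrivial (N ⧸ p k) := by
    apply Submodule.Quotient.nontrivial_iff.mpr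
    intro htop
    apply h k
    intro y hy
    have : (⟨y, hy⟩ : N) ∈ p k := by rw [htop]; trivial
    exact this
  have := infinite_of_nontrivial (B := B) (N ⧸ p k)
  exact not_finite (N ⧸ p k)

end Cover

section Main

variable {B A M : Type u} [CommRing B] [CommRing A]
    [IsLocalRing B] [Infinite (IsLocalRing.ResidueField B)] [Algebra B A]
    [Finite (MaximalSpectrum A)]
    [AddCommGroup M] [Module A M] [Module B M] [IsScalarTower B A M]

variable {n : ℕ} (e : Module.Basis (Fin n) A M)

/-- coordinates mod a maximal ideal -/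
noncomputable def pr (m : MaximalSpectrum A) (y : M) : Fin n → A ⧸ m.asIdeal :=
  fun i => Ideal.Quotient.mk m.asIdeal (e.repr y i)

theorem pr_add (m : MaximalSpectrum A) (y y' : M) : pr e m (y + y') = pr e m y + pr e m y' := by
  ext i; simp [pr]

theorem pr_zero (m : MaximalSpectrum A) : pr e m (0 : M) = 0 := by
  ext i; simp [pr]

theorem pr_smul (m : MaximalSpectrum A) (a : A) (y : M) :
    pr e m (a • y) = Ideal.Quotient.mk m.asIdeal a • pr e m y := by
  ext i; simp [pr]

theorem pr_surjective (m : MaximalSpectrum A) : Function.Surjective (pr e m) := by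
  intro v
  choose a ha using fun i => Ideal.Quotient.mk_surjective (v i)
  refine ⟨∑ i, a i • e i, ?_⟩
  ext i
  show Ideal.Quotient.mk _ (e.repr (∑ j, a j • e j) i) = v i
  rw [Module.Basis.repr_sum_self]
  exact ha i

noncomputable instance (m : MaximalSpectrum A) : Field (A ⧸ m.asIdeal) := Ideal.Quotient.field m.asIdeal

/-- preimage of a subspace as a `B`-submodule -/
noncomputable def Wsub (m : MaximalSpectrum A) (V : Submodule (A ⧸ m.asIdeal) (Fin n → A ⧸ m.asIdeal)) :
    Submodule B M where
  carrier := {y | pr e m y ∈ V}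
  add_mem' := by
    intro y y' hy hy'
    simp only [Set.mem_ofPred_eq] at hy hy' ⊢
    rw [pr_add]; exact V.add_mem hy hy'
  zero_mem' := by
    simp only [Set.mem_ofPred_eq]
    rw [pr_zero]; exact V.zero_mem
  smul_mem' := by
    intro b y hy
    simp only [Set.mem_ofPred_eq] at hy ⊢
    rw [← algebraMap_smul A b y, pr_smul]
    exact V.smul_mem _ hy

theorem mem_Wsub (m : MaximalSpectrum A) (V : Submodule (A ⧸ m.asIdeal) (Fin n → A ⧸ m.asIdeal))
    (y : M) : y ∈ Wsub (B := B) e m V ↔ pr e m y ∈ V := Iff.rfl

theorem eq_top_of_le_Wsub (N : Submodule B M) (hN : Submodule.span A (N : Set M) = ⊤)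
    (m : MaximalSpectrum A) (V : Submodule (A ⧸ m.asIdeal) (Fin n → A ⧸ m.asIdeal))
    (h : N ≤ Wsub e m V) : V = ⊤ := by
  have hall : ∀ y : M, pr e m y ∈ V := by
    intro y
    have hy : y ∈ Submodule.span A (N : Set M) := by rw [hN]; trivial
    induction hy using Submodule.span_induction with
    | mem y hy => exact h hy
    | zero => rw [pr_zero]; exact V.zero_mem
    | add y y' _ _ hy hy' => rw [pr_add]; exact V.add_mem hy hy'
    | smul a y _ hy => rw [pr_smul]; exact V.smul_mem _ hy
  rw [eq_top_iff]
  intro v _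
  obtain ⟨y, rfl⟩ := pr_surjective e m v
  exact hall y

theorem stage (N : Submodule B M) (hN : Submodule.span A (N : Set M) = ⊤) (i : ℕ) (hi : i ≤ n) :
    ∃ x : Fin i → M, (∀ t, x t ∈ N) ∧
      ∀ m : MaximalSpectrum A, LinearIndependent (A ⧸ m.asIdeal) (fun t => pr e m (x t)) := by
  induction i with
  | zero => exact ⟨Fin.elim0, fun t => t.elim0, fun m => linearIndependent_empty_type⟩
  | succ i ih =>
    obtain ⟨x, hxN, hx⟩ := ih (by omega)
    let V : ∀ m : MaximalSpectrum A, Submodule (A ⧸ m.asIdeal) (Fin n → A ⧸ m.asIdeal) :=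
      fun m => Submodule.span _ (Set.range (fun t => pr e m (x t)))
    have hV : ∀ m, ¬ N ≤ Wsub e m (V m) := by
      intro m hle
      have htop := eq_top_of_le_Wsub e N hN m (V m) hle
      have h1 : Module.finrank (A ⧸ m.asIdeal) (V m) = i := by
        rw [finrank_span_eq_card (hx m), Fintype.card_fin]
      rw [htop, finrank_top, Module.finrank_fin_fun] at h1
      omega
    obtain ⟨y, hyN, hy⟩ := exists_notMem_of_forall_not_le N (fun m => Wsub e m (V m)) hV
    refine ⟨Fin.cons y x, ?_, ?_⟩
    · intro t
      refine Fin.cases ?_ (fun s => ?_) t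
      · simpa using hyN
      · simpa using hxN s
    · intro m
      have hfun : (fun t => pr e m ((Fin.cons y x : Fin (i + 1) → M) t)) =
          Fin.cons (pr e m y) (fun t => pr e m (x t)) := by
        funext t
        refine Fin.cases ?_ (fun s => ?_) t
        · simp
        · simp
      rw [hfun, linearIndependent_finCons]
      exact ⟨hx m, hy m⟩

theorem isUnit_of_forall_notMem (a : A) (h : ∀ m : MaximalSpectrum A, a ∉ m.asIdeal) :
    IsUnit a := by
  by_contra hu
  obtain ⟨m, hm, hle⟩ := Ideal.exists_le_maximal (Ideal.span {a})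
    (by rwa [Ne, Ideal.span_singleton_eq_top])
  exact h ⟨m, hm⟩ (hle (Ideal.mem_span_singleton_self a))

include e in
theorem main_aux (N : Submodule B M) (hN : Submodule.span A (N : Set M) = ⊤) :
    ∃ b : Module.Basis (Fin n) A M, ∀ i, b i ∈ N := by
  obtain ⟨x, hxN, hx⟩ := stage e N hN n le_rfl
  have hdet : IsUnit (e.det x) := by
    apply isUnit_of_forall_notMem
    intro m hmem
    have h1 : Ideal.Quotient.mk m.asIdeal (e.det x) = 0 := Ideal.Quotient.eq_zero_iff_mem.mpr hmem
    rw [Module.Basis.det_apply, RingHom.map_det] at h1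
    have h2 : LinearIndependent (A ⧸ m.asIdeal)
        ((Ideal.Quotient.mk m.asIdeal).mapMatrix (e.toMatrix x)).col := by
      convert hx m using 1
      funext t i
      rfl
    rw [Matrix.linearIndependent_cols_iff_isUnit, Matrix.isUnit_iff_isUnit_det, h1] at h2
    exact not_isUnit_zero h2
  obtain ⟨hli, hsp⟩ := (e.is_basis_iff_det).mpr hdet
  refine ⟨Module.Basis.mk hli hsp.ge, fun i => ?_⟩
  rw [Module.Basis.mk_apply]
  exact hxN i

end Main

theorem main {B A M : Type u} [CommRing B] [CommRing A]
    [IsLocalRing B] [Infinite (IsLocalRing.ResidueField B)] [Algebra B A]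
    [Finite (MaximalSpectrum A)]
    (hBA : (IsLocalRing.maximalIdeal B).map (algebraMap B A) ≤ (⊥ : Ideal A).jacobson)
    [AddCommGroup M] [Module A M] [Module B M] [IsScalarTower B A M]
    [Module.Free A M] [Module.Finite A M]
    (N : Submodule B M) (hN : Submodule.span A (N : Set M) = ⊤) :
    ∃ b : Module.Basis (Fin (Module.finrank A M)) A M, ∀ i, b i ∈ N := by
  by_cases hA : Nontrivial A
  · exact main_aux (Module.finBasis A M) N hN
  · rw [not_nontrivial_iff_subsingleton] at hA
    haveI : Subsingleton M := Module.subsingleton A M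
    haveI : Subsingleton (Fin (Module.finrank A M) →₀ A) :=
      ⟨fun a b => Finsupp.ext fun i => Subsingleton.elim _ _⟩
    refine ⟨Module.Basis.ofRepr (LinearEquiv.ofSubsingleton _ _), fun i => ?_⟩
    rw [Subsingleton.elim (Module.Basis.ofRepr (LinearEquiv.ofSubsingleton M
      (Fin (Module.finrank A M) →₀ A)) i) 0]
    exact N.zero_mem

end Groth.Agent.H5.SLB
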